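/-
helper49 library (project S4719 of helper79, module [BFA], hedge): Brauer-Fowler bound for an involutory automorphism of a
nonabelian simple group: |S| ≤ (2 |Fix τ|²)!.
-/
import Mathlib
import Cfsg.Agent.S0212

set_option autoImplicit false
set_option linter.unusedSectionVars false
set_option linter.unusedVariables false

namespace Cfsg.Agent.Lib.Helper49.BFA

open Finset

universe u
variable {S : Type u} [Group S] [Fintype S] [DecidableEq S]

/-- the set `U = {x (τ x)⁻¹}` -/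
def Uset (τ : S ≃* S) : Finset S := univ.image (fun x => x * (τ x)⁻¹)

/-- the fixed points of `τ` -/
def Fixset (τ : S ≃* S) : Finset S := univ.filter (fun x => τ x = x)

theorem one_mem_Fixset (τ : S ≃* S) : (1 : S) ∈ Fixset τ := by
  simp [Fixset]

/-- (a): `|S| ≤ |Fix| * |U|` -/
theorem card_le_fix_mul_U (τ : S ≃* S) :
    Fintype.card S ≤ (Fixset τ).card * (Uset τ).card := by
  rw [← Finset.card_univ]
  unfold Uset
  apply Finset.card_le_mul_card_image
  intro b hb
  obtain ⟨x₀, -, hx₀⟩ := Finset.mem_image.1 hb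
  apply Finset.card_le_card_of_injOn (fun x => x₀⁻¹ * x)
  · intro x hx
    have hx' : x * (τ x)⁻¹ = b := (Finset.mem_filter.1 hx).2
    simp only [Fixset, Finset.coe_filter, Finset.mem_univ, true_and, Set.mem_ofPred_eq]
    rw [map_mul, map_inv]
    -- x₀ (τ x₀)⁻¹ = x (τ x)⁻¹  ⇒ (τ x₀)⁻¹ τ x = x₀⁻¹ x
    have h := hx₀.trans hx'.symm
    have h2 : (τ x₀)⁻¹ * τ x = x₀⁻¹ * x := by
      have : τ x = (x₀ * (τ x₀)⁻¹)⁻¹ * x := by rw [h]; group
      rw [this]; group
    exact h2
  · intro x _ y _ hxy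
    exact mul_left_cancel hxy

/-- (b): `τ u = u⁻¹` on `U` -/
theorem tau_of_mem_U (τ : S ≃* S) (hτ : ∀ x, τ (τ x) = x) (u : S) (hu : u ∈ Uset τ) :
    τ u = u⁻¹ := by
  obtain ⟨x, -, rfl⟩ := Finset.mem_image.1 hu
  rw [map_mul, map_inv, hτ, mul_inv_rev, inv_inv]

/-- (c): fibres of `(u, u') ↦ u u'⁻¹` on `U × U` -/
theorem card_fibre_le (τ : S ≃* S) (hτ : ∀ x, τ (τ x) = x) (y : S) :
    (((Uset τ) ×ˢ (Uset τ)).filter (fun p => p.1 * p.2⁻¹ = y)).card ≤
      (univ.filter (fun c : S => c * y = y * c)).card := by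
  rcases Finset.eq_empty_or_nonempty (((Uset τ) ×ˢ (Uset τ)).filter (fun p => p.1 * p.2⁻¹ = y))
    with he | ⟨p₀, hp₀⟩
  · rw [he]; simp
  · apply Finset.card_le_card_of_injOn (fun p => p₀.1 * p.1⁻¹)
    · intro p hp
      obtain ⟨hpU, hpy⟩ := Finset.mem_filter.1 hp
      obtain ⟨hp₀U, hp₀y⟩ := Finset.mem_filter.1 hp₀
      obtain ⟨h1, h2⟩ := Finset.mem_product.1 hpU
      obtain ⟨h01, h02⟩ := Finset.mem_product.1 hp₀U
      -- u⁻¹ y u = (τ y)⁻¹ for any first coordinate u of the fibre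
      have key : ∀ q : S × S, q.1 ∈ Uset τ → q.2 ∈ Uset τ → q.1 * q.2⁻¹ = y →
          q.1⁻¹ * y * q.1 = (τ y)⁻¹ := by
        intro q hq1 hq2 hqy
        rw [← hqy, map_mul, map_inv, tau_of_mem_U τ hτ _ hq1, tau_of_mem_U τ hτ _ hq2]
        group
      have k1 := key p h1 h2 hpy
      have k0 := key p₀ h01 h02 hp₀y
      simp only [Finset.coe_filter, Finset.mem_univ, true_and, Set.mem_ofPred_eq]
      have h3 : p.1⁻¹ * y * p.1 = p₀.1⁻¹ * y * p₀.1 := k1.trans k0.symm
      have h4 : y = p.1 * (p₀.1⁻¹ * y * p₀.1) * p.1⁻¹ := by rw [← h3]; group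
      calc p₀.1 * p.1⁻¹ * y = p₀.1 * p.1⁻¹ * (p.1 * (p₀.1⁻¹ * y * p₀.1) * p.1⁻¹) := by rw [← h4]
        _ = y * (p₀.1 * p.1⁻¹) := by group
    · intro p hp q hq hpq
      obtain ⟨-, hpy⟩ := Finset.mem_filter.1 hp
      obtain ⟨-, hqy⟩ := Finset.mem_filter.1 hq
      have h1 : p.1 = q.1 := by
        have := mul_left_cancel hpq
        exact inv_injective this
      have h2 : p.2 = q.2 := by
        have e1 : p.2 = y⁻¹ * p.1 := by rw [← hpy]; group
        have e2 : q.2 = y⁻¹ * q.1 := by rw [← hqy]; group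
        rw [e1, e2, h1]
      exact Prod.ext h1 h2

theorem card_fibre_one (τ : S ≃* S) :
    (((Uset τ) ×ˢ (Uset τ)).filter (fun p => p.1 * p.2⁻¹ = 1)).card = (Uset τ).card := by
  apply Finset.card_bij (fun p _ => p.1)
  · intro p hp
    exact (Finset.mem_product.1 (Finset.mem_filter.1 hp).1).1
  · intro p hp q hq h
    have hp1 := (Finset.mem_filter.1 hp).2
    have hq1 := (Finset.mem_filter.1 hq).2
    have e1 : p.2 = p.1 := (mul_inv_eq_one.1 hp1).symm
    have e2 : q.2 = q.1 := (mul_inv_eq_one.1 hq1).symm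
    exact Prod.ext h (by rw [e1, e2, h])
  · intro u hu
    exact ⟨(u, u), Finset.mem_filter.2 ⟨Finset.mem_product.2 ⟨hu, hu⟩, mul_inv_cancel u⟩, rfl⟩

theorem card_centralizer_mul_le (hZ : Subgroup.center S = ⊥) (m : ℕ)
    (hm : ∀ H : Subgroup S, H ≠ ⊤ → m ≤ H.index) (y : S) (hy : y ≠ 1) :
    (univ.filter (fun c : S => c * y = y * c)).card * m ≤ Fintype.card S := by
  have hne : Subgroup.centralizer ({y} : Set S) ≠ ⊤ := by
    intro h
    apply hy
    have : y ∈ Subgroup.center S := by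
      rw [Subgroup.mem_center_iff]
      intro g
      have hg : g ∈ Subgroup.centralizer ({y} : Set S) := by rw [h]; trivial
      rw [Subgroup.mem_centralizer_iff] at hg
      exact (hg y rfl).symm
    rw [hZ] at this
    exact Subgroup.mem_bot.1 this
  have hcard : (univ.filter (fun c : S => c * y = y * c)).card =
      Nat.card (Subgroup.centralizer ({y} : Set S)) := by
    classical
    rw [Nat.card_eq_fintype_card, Fintype.card_subtype]
    congr 1
    ext c
    simp only [Finset.mem_filter, Finset.mem_univ, true_and, Subgroup.mem_centralizer_iff,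
      Set.mem_singleton_iff, forall_eq]
    exact eq_comm
  rw [hcard]
  calc Nat.card (Subgroup.centralizer ({y} : Set S)) * m
      ≤ Nat.card (Subgroup.centralizer ({y} : Set S)) * (Subgroup.centralizer ({y} : Set S)).index :=
        Nat.mul_le_mul_left _ (hm _ hne)
    _ = Nat.card S := Subgroup.card_mul_index _
    _ = Fintype.card S := Nat.card_eq_fintype_card

theorem key_ineq (hZ : Subgroup.center S = ⊥) (τ : S ≃* S) (hτ : ∀ x, τ (τ x) = x) (m : ℕ)
    (hm : ∀ H : Subgroup S, H ≠ ⊤ → m ≤ H.index) :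
    m * (Uset τ).card ^ 2 ≤ m * (Uset τ).card + (Fintype.card S - 1) * Fintype.card S := by
  have hsum : (Uset τ).card ^ 2 =
      ∑ y ∈ (univ : Finset S), (((Uset τ) ×ˢ (Uset τ)).filter (fun p => p.1 * p.2⁻¹ = y)).card := by
    rw [sq, ← Finset.card_product]
    exact Finset.card_eq_sum_card_fiberwise (fun _ _ => Finset.mem_coe.2 (Finset.mem_univ _))
  rw [hsum, ← Finset.add_sum_erase univ _ (Finset.mem_univ (1 : S)), card_fibre_one, mul_add]
  apply Nat.add_le_add_left
  rw [Finset.mul_sum]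
  calc ∑ y ∈ univ.erase (1 : S),
        m * (((Uset τ) ×ˢ (Uset τ)).filter (fun p => p.1 * p.2⁻¹ = y)).card
      ≤ ∑ y ∈ univ.erase (1 : S), Fintype.card S := by
        apply Finset.sum_le_sum
        intro y hy
        have hy1 : y ≠ 1 := Finset.ne_of_mem_erase hy
        calc m * (((Uset τ) ×ˢ (Uset τ)).filter (fun p => p.1 * p.2⁻¹ = y)).card
            ≤ m * (univ.filter (fun c : S => c * y = y * c)).card :=
              Nat.mul_le_mul_left _ (card_fibre_le τ hτ y)
          _ = (univ.filter (fun c : S => c * y = y * c)).card * m := mul_comm _ _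
          _ ≤ Fintype.card S := card_centralizer_mul_le hZ m hm y hy1
    _ = (Fintype.card S - 1) * Fintype.card S := by
        rw [Finset.sum_const, Finset.card_erase_of_mem (Finset.mem_univ _), Finset.card_univ,
          smul_eq_mul]

theorem arith_aux (n' F u m : ℕ) (hF : 1 ≤ F) (hA : n' + 1 ≤ F * u)
    (hB : m * u ^ 2 ≤ m * u + n' * (n' + 1)) (hbig : 2 * F < n' + 1) (hcon : 2 * F ^ 2 ≤ m) :
    False := by
  have h1 : m * (F * u) ^ 2 ≤ m * (F * u) * F + n' * (n' + 1) * F ^ 2 := by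
    calc m * (F * u) ^ 2 = (m * u ^ 2) * F ^ 2 := by ring
      _ ≤ (m * u + n' * (n' + 1)) * F ^ 2 := Nat.mul_le_mul_right _ hB
      _ = m * (F * u) * F + n' * (n' + 1) * F ^ 2 := by ring
  have h2a : n' * (n' + 1) < (F * u) ^ 2 := by nlinarith
  have hF2 : 0 < F ^ 2 := by positivity
  have h2 : n' * (n' + 1) * F ^ 2 < (F * u) ^ 2 * F ^ 2 := Nat.mul_lt_mul_of_pos_right h2a hF2
  have h3 : 2 * ((F * u) ^ 2 * F ^ 2) ≤ m * (F * u) ^ 2 := by
    calc 2 * ((F * u) ^ 2 * F ^ 2) = 2 * F ^ 2 * (F * u) ^ 2 := by ring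
      _ ≤ m * (F * u) ^ 2 := Nat.mul_le_mul_right _ hcon
  have h4 : m * (F * u) ^ 2 < 2 * (m * (F * u) * F) := by omega
  have h5 : m * (F * u) * (F * u) < m * (F * u) * (2 * F) := by
    calc m * (F * u) * (F * u) = m * (F * u) ^ 2 := by ring
      _ < 2 * (m * (F * u) * F) := h4
      _ = m * (F * u) * (2 * F) := by ring
  have h6 : F * u < 2 * F := Nat.lt_of_mul_lt_mul_left h5
  omega

theorem bf_aut_fintype [IsSimpleGroup S] (hZ : Subgroup.center S = ⊥) (τ : S ≃* S)
    (hτ : ∀ x, τ (τ x) = x) :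
    Fintype.card S ≤ Nat.factorial (2 * (Fixset τ).card ^ 2) := by
  have hF : 1 ≤ (Fixset τ).card := Finset.card_pos.2 ⟨1, one_mem_Fixset τ⟩
  have hA := card_le_fix_mul_U τ
  by_cases hsmall : Fintype.card S ≤ 2 * (Fixset τ).card
  · calc Fintype.card S ≤ 2 * (Fixset τ).card := hsmall
      _ ≤ 2 * (Fixset τ).card ^ 2 := by nlinarith
      _ ≤ Nat.factorial (2 * (Fixset τ).card ^ 2) := Nat.self_le_factorial _
  · push Not at hsmall
    have hex : ∃ k, ∃ H : Subgroup S, H ≠ ⊤ ∧ H.index = k := ⟨_, ⊥, bot_ne_top, rfl⟩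
    classical
    obtain ⟨H, hH, hHm⟩ := Nat.find_spec hex
    have hm : ∀ H' : Subgroup S, H' ≠ ⊤ → Nat.find hex ≤ H'.index :=
      fun H' hH' => Nat.find_min' hex ⟨H', hH', rfl⟩
    have hB := key_ineq hZ τ hτ (Nat.find hex) hm
    have hm2 : Nat.find hex < 2 * (Fixset τ).card ^ 2 := by
      by_contra hcon
      push Not at hcon
      obtain ⟨n', hn'⟩ : ∃ n', Fintype.card S = n' + 1 :=
        ⟨Fintype.card S - 1, by have := Fintype.card_pos (α := S); omega⟩
      rw [hn'] at hA hB hsmall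
      simp only [Nat.add_sub_cancel] at hB
      exact arith_aux n' _ _ _ hF hA hB hsmall hcon
    calc Fintype.card S = Nat.card S := Nat.card_eq_fintype_card.symm
      _ ≤ Nat.factorial H.index := Cfsg.Agent.S0212.card_le_factorial_index H hH
      _ = Nat.factorial (Nat.find hex) := by rw [hHm]
      _ ≤ Nat.factorial (2 * (Fixset τ).card ^ 2) := Nat.factorial_le hm2.le

end Cfsg.Agent.Lib.Helper49.BFA

namespace Cfsg.Agent.Lib.Helper79.S4719

universe u

/-- [BFA] -/
theorem bf_aut {S : Type u} [Group S] [Finite S] [IsSimpleGroup S] (hZ : Subgroup.center S = ⊥)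
    (τ : S ≃* S) (hτ : ∀ x, τ (τ x) = x) :
    Nat.card S ≤ Nat.factorial (2 * (Nat.card {x : S // τ x = x}) ^ 2) := by
  classical
  have : Fintype S := Fintype.ofFinite S
  have h := Cfsg.Agent.Lib.Helper49.BFA.bf_aut_fintype hZ τ hτ
  have hfix : Nat.card {x : S // τ x = x} = (Cfsg.Agent.Lib.Helper49.BFA.Fixset τ).card := by
    rw [Nat.card_eq_fintype_card, Fintype.card_subtype]
    rfl
  rw [Nat.card_eq_fintype_card, hfix]
  exact h

end Cfsg.Agent.Lib.Helper79.S4719
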